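import Mathlib
import Groth.Prelude.Def_CAlgX
import Groth.Agent.CAlgH3.DualMinors

/-!
# Charts of generic determinantal rings
-/

set_option autoImplicit false
set_option linter.unusedSectionVars false

universe u

open MvPolynomial

namespace Groth.Agent.Det5

variable (k : Type u) [CommRing k] {n m r : ℕ} (f : Fin r → Fin n) (g : Fin r → Fin m)

/-- The generic matrix. -/
noncomputable abbrev gmat (n m : ℕ) : Matrix (Fin n) (Fin m) (MvPolynomial (Fin n × Fin m) k) :=
  Matrix.of fun (i : Fin n) (j : Fin m) => (MvPolynomial.X (i, j) : MvPolynomial (Fin n × Fin m) k)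

/-- The determinantal ideal. -/
noncomputable abbrev dI (n m r : ℕ) : Ideal (MvPolynomial (Fin n × Fin m) k) :=
  CAlgX.minorIdeal (gmat k n m) (r + 1)

/-- Places in one of the chosen rows or columns. -/
abbrev Pl := {p : Fin n × Fin m // p.1 ∈ Set.range f ∨ p.2 ∈ Set.range g}

open Classical in
/-- Variables at the chosen places. -/
noncomputable def ymat : Matrix (Fin n) (Fin m) (MvPolynomial (Pl f g) k) :=
  Matrix.of fun i j => if h : i ∈ Set.range f ∨ j ∈ Set.range g then X ⟨(i, j), h⟩ else 0

/-- The pivot minor. -/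
noncomputable def piv : MvPolynomial (Pl f g) k := ((ymat k f g).submatrix f g).det

/-- The chart ring. -/
abbrev Chart := Localization.Away (piv k f g)

/-- Variables in the chart ring. -/
noncomputable def ymat' : Matrix (Fin n) (Fin m) (Chart k f g) :=
  (ymat k f g).map (algebraMap _ _)

theorem isUnit_det_ymat' : IsUnit ((ymat' k f g).submatrix f g).det := by
  rw [ymat', Matrix.submatrix_map, ← RingHom.mapMatrix_apply, ← RingHom.map_det]
  exact IsLocalization.Away.algebraMap_isUnit (piv k f g)

/-- The generic matrix of rank `r` in the chart. -/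
noncomputable def mmat : Matrix (Fin n) (Fin m) (Chart k f g) :=
  (ymat' k f g).submatrix id g * ((ymat' k f g).submatrix f g)⁻¹ * (ymat' k f g).submatrix f id

theorem mmat_apply_of_mem (i : Fin n) (j : Fin m) (h : i ∈ Set.range f ∨ j ∈ Set.range g) :
    mmat k f g i j = ymat' k f g i j := by
  rcases h with ⟨a, rfl⟩ | ⟨b, rfl⟩
  · calc mmat k f g (f a) j
        = ((ymat' k f g).submatrix f g * ((ymat' k f g).submatrix f g)⁻¹ * (ymat' k f g).submatrix f id) a j := by
          simp [mmat, Matrix.mul_apply]
      _ = _ := by rw [Matrix.mul_nonsing_inv _ (isUnit_det_ymat' k f g), Matrix.one_mul]; rfl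
  · calc mmat k f g i (g b)
        = ((ymat' k f g).submatrix id g * (((ymat' k f g).submatrix f g)⁻¹ * (ymat' k f g).submatrix f g)) i b := by
          rw [← Matrix.mul_assoc]; simp [mmat, Matrix.mul_apply]
      _ = _ := by rw [Matrix.nonsing_inv_mul _ (isUnit_det_ymat' k f g), Matrix.mul_one]; rfl

/-- Specialisation to the chart. -/
noncomputable def toChart₀ : MvPolynomial (Fin n × Fin m) k →ₐ[k] Chart k f g :=
  aeval fun p => mmat k f g p.1 p.2

theorem toChart₀_gmat : (gmat k n m).map (toChart₀ k f g) = mmat k f g := by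
  ext i j; simp [toChart₀]

theorem dI_le_ker : dI k n m r ≤ RingHom.ker (toChart₀ k f g) := by
  rw [dI, CAlgX.minorIdeal, Ideal.span_le]
  rintro _ ⟨⟨a, b⟩, rfl⟩
  show toChart₀ k f g _ = 0
  rw [AlgHom.map_det, AlgHom.mapMatrix_apply, ← Matrix.submatrix_map, toChart₀_gmat, mmat,
    Matrix.submatrix_mul _ _ a id b Function.bijective_id]
  exact CAlgH3.DualMinors.det_mul_eq_zero _ _

/-- Specialisation of the determinantal ring to the chart. -/
noncomputable def toChart : (MvPolynomial (Fin n × Fin m) k ⧸ dI k n m r) →ₐ[k] Chart k f g :=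
  Ideal.Quotient.liftₐ _ (toChart₀ k f g) fun _ ha => dI_le_ker k f g ha

theorem toChart_mk (x : MvPolynomial (Fin n × Fin m) k) :
    toChart k f g (Ideal.Quotient.mk _ x) = toChart₀ k f g x := rfl

theorem toChart₀_minor : toChart₀ k f g ((gmat k n m).submatrix f g).det = algebraMap _ _ (piv k f g) := by
  rw [AlgHom.map_det, AlgHom.mapMatrix_apply, ← Matrix.submatrix_map, toChart₀_gmat]
  refine Eq.trans ?_ (RingHom.map_det (algebraMap (MvPolynomial (Pl f g) k) (Chart k f g)) ((ymat k f g).submatrix f g)).symm
  congr 1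
  ext a b
  simpa [ymat'] using mmat_apply_of_mem k f g (f a) (g b) (Or.inl ⟨a, rfl⟩)

/-- A minor of the determinantal ring. -/
noncomputable abbrev qminor : MvPolynomial (Fin n × Fin m) k ⧸ dI k n m r :=
  Ideal.Quotient.mk _ ((gmat k n m).submatrix f g).det

/-- The generic matrix in the localization of the determinantal ring. -/
noncomputable def xmat : Matrix (Fin n) (Fin m) (Localization.Away (qminor k f g)) :=
  (gmat k n m).map ((algebraMap _ (Localization.Away (qminor k f g))).comp (Ideal.Quotient.mk (dI k n m r)))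

theorem xmat_apply (i : Fin n) (j : Fin m) :
    xmat k f g i j = algebraMap _ (Localization.Away (qminor k f g)) (Ideal.Quotient.mk (dI k n m r) (X (i, j))) := rfl

theorem isUnit_det_xmat : IsUnit ((xmat k f g).submatrix f g).det := by
  rw [xmat, Matrix.submatrix_map, ← RingHom.mapMatrix_apply, ← RingHom.map_det]
  exact IsLocalization.Away.algebraMap_isUnit (qminor k f g)

/-- Back from the variables. -/
noncomputable def fromPl : MvPolynomial (Pl f g) k →ₐ[k] Localization.Away (qminor k f g) :=
  aeval fun p => xmat k f g p.1.1 p.1.2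

theorem fromPl_ymat (i : Fin n) (j : Fin m) (h : i ∈ Set.range f ∨ j ∈ Set.range g) :
    fromPl k f g (ymat k f g i j) = xmat k f g i j := by
  simp only [fromPl, ymat, Matrix.of_apply]
  rw [dif_pos h, aeval_X]

theorem isUnit_fromPl_piv : IsUnit (fromPl k f g (piv k f g)) := by
  convert isUnit_det_xmat k f g using 1
  unfold piv
  rw [AlgHom.map_det]
  congr 1
  ext a b
  exact fromPl_ymat k f g _ _ (Or.inl ⟨a, rfl⟩)

/-- Back from the chart. -/
noncomputable def fromChart : Chart k f g →ₐ[k] Localization.Away (qminor k f g) :=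
  IsLocalization.liftAlgHom (M := Submonoid.powers (piv k f g)) (f := fromPl k f g)
    (by rintro ⟨_, l, rfl⟩; rw [map_pow]; exact (isUnit_fromPl_piv k f g).pow l)

theorem fromChart_algebraMap (z : MvPolynomial (Pl f g) k) :
    fromChart k f g (algebraMap _ _ z) = fromPl k f g z := IsLocalization.lift_eq _ z

theorem isUnit_toChart_qminor : IsUnit (toChart k f g (qminor k f g)) := by
  rw [qminor, toChart_mk, toChart₀_minor]
  exact IsLocalization.Away.algebraMap_isUnit (piv k f g)

/-- To the chart. -/
noncomputable def intoChart : Localization.Away (qminor k f g) →ₐ[k] Chart k f g :=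
  IsLocalization.liftAlgHom (M := Submonoid.powers (qminor k f g)) (f := toChart k f g)
    (by rintro ⟨_, l, rfl⟩; rw [map_pow]; exact (isUnit_toChart_qminor k f g).pow l)

theorem intoChart_xmat (i : Fin n) (j : Fin m) : intoChart k f g (xmat k f g i j) = mmat k f g i j := by
  rw [xmat_apply]
  refine (IsLocalization.lift_eq _ _).trans ?_
  show toChart₀ k f g (X (i, j)) = _
  rw [toChart₀, aeval_X]

theorem fromChart_mmat (i : Fin n) (j : Fin m) : fromChart k f g (mmat k f g i j) = xmat k f g i j := by
  have hy : ∀ i j, (i ∈ Set.range f ∨ j ∈ Set.range g) → fromChart k f g (ymat' k f g i j) = xmat k f g i j :=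
    fun i j h => (fromChart_algebraMap k f g _).trans (fromPl_ymat k f g i j h)
  have hu := isUnit_det_xmat k f g
  have h1 : ((ymat' k f g).submatrix f g).map (fromChart k f g) = (xmat k f g).submatrix f g := by
    ext a b; exact hy _ _ (Or.inl ⟨a, rfl⟩)
  have hinv : (((ymat' k f g).submatrix f g)⁻¹).map (fromChart k f g) = ((xmat k f g).submatrix f g)⁻¹ := by
    refine (Matrix.inv_eq_left_inv ?_).symm
    rw [← h1, ← Matrix.map_mul, Matrix.nonsing_inv_mul _ (isUnit_det_ymat' k f g)]
    exact Matrix.map_one _ (map_zero _) (map_one _)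
  have hL : ((ymat' k f g).submatrix id g).map (fromChart k f g) = (xmat k f g).submatrix id g := by
    ext a b; exact hy _ _ (Or.inr ⟨b, rfl⟩)
  have hR : ((ymat' k f g).submatrix f id).map (fromChart k f g) = (xmat k f g).submatrix f id := by
    ext a b; exact hy _ _ (Or.inl ⟨a, rfl⟩)
  show ((mmat k f g).map (fromChart k f g)) i j = xmat k f g i j
  rw [mmat, Matrix.map_mul, Matrix.map_mul, hinv, hL, hR]
  letI := Matrix.invertibleOfIsUnitDet _ hu
  let eF : Fin r ⊕ Unit → Fin n := Sum.elim f fun _ => i
  let eG : Fin r ⊕ Unit → Fin m := Sum.elim g fun _ => j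
  let e : Fin (r + 1) ≃ Fin r ⊕ Unit := (Fintype.equivFinOfCardEq (by simp)).symm
  have h0 : ((xmat k f g).submatrix eF eG).det = 0 := by
    rw [← Matrix.det_submatrix_equiv_self e, Matrix.submatrix_submatrix, xmat, Matrix.submatrix_map,
      ← RingHom.mapMatrix_apply, ← RingHom.map_det, RingHom.comp_apply,
      Ideal.Quotient.eq_zero_iff_mem.2 (show _ ∈ dI k n m r from Ideal.subset_span ⟨(eF ∘ e, eG ∘ e), rfl⟩), map_zero]
  rw [show (xmat k f g).submatrix eF eG = Matrix.fromBlocks ((xmat k f g).submatrix f g)
      ((xmat k f g).submatrix f fun _ => j) ((xmat k f g).submatrix (fun _ => i) g)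
      ((xmat k f g).submatrix (fun _ => i) fun _ => j) from by
    ext (a | a) (b | b) <;> rfl, Matrix.det_fromBlocks₁₁, hu.mul_right_eq_zero, Matrix.det_unique] at h0
  simp only [Matrix.sub_apply, Matrix.submatrix_apply, sub_eq_zero] at h0
  rw [h0, Matrix.invOf_eq_nonsing_inv]
  simp [Matrix.mul_apply]

theorem intoChart_comp_fromChart : (intoChart k f g).comp (fromChart k f g) = AlgHom.id k _ := by
  refine IsLocalization.algHom_ext (Submonoid.powers (piv k f g)) (MvPolynomial.algHom_ext fun p => ?_)
  show intoChart k f g (fromChart k f g (algebraMap _ _ (X p))) = algebraMap _ _ (X p)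
  rw [fromChart_algebraMap, fromPl, aeval_X, intoChart_xmat, mmat_apply_of_mem k f g _ _ p.2]
  simp only [ymat', ymat, Matrix.map_apply, Matrix.of_apply]
  rw [dif_pos p.2]

theorem fromChart_comp_intoChart : (fromChart k f g).comp (intoChart k f g) = AlgHom.id k _ := by
  refine IsLocalization.algHom_ext (Submonoid.powers (qminor k f g))
    (Ideal.Quotient.algHom_ext _ (MvPolynomial.algHom_ext fun p => ?_))
  show fromChart k f g (intoChart k f g (xmat k f g p.1 p.2)) = xmat k f g p.1 p.2
  rw [intoChart_xmat, fromChart_mmat]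

/-- The chart is the localization at the minor. -/
noncomputable def chartEquiv : Localization.Away (qminor k f g) ≃ₐ[k] Chart k f g :=
  AlgEquiv.ofAlgHom (intoChart k f g) (fromChart k f g) (intoChart_comp_fromChart k f g)
    (fromChart_comp_intoChart k f g)

end Groth.Agent.Det5
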