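import Groth.Agent.Det5.Chart
import Groth.Agent.DimLib.Algebra

/-!
# Dimension of generic determinantal rings
-/

set_option autoImplicit false
set_option linter.style.haveILetI false
set_option maxHeartbeats 800000

universe u

open MvPolynomial Cardinal

namespace Groth.Agent.Det5

variable (k : Type u) [Field k] {n m : ℕ}

theorem ringKrullDim_le_of_forall_quotient {A : Type u} [CommRing A] (d : WithBot ℕ∞)
    (h : ∀ P : Ideal A, P.IsPrime → ringKrullDim (A ⧸ P) ≤ d) : ringKrullDim A ≤ d := by
  refine iSup_le fun l => ?_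
  let P := l.head.asIdeal
  refine le_trans ?_ (h P l.head.isPrime)
  rw [ringKrullDim_quotient]
  let l' : LTSeries (PrimeSpectrum.zeroLocus (P : Set A)) :=
    { length := l.length
      toFun := fun i => ⟨l i, fun _ hx => (l.head_le i : l.head.asIdeal ≤ (l i).asIdeal) hx⟩
      step := fun i => l.step i }
  exact Order.LTSeries.length_le_krullDim l'

/-- A field generated by a set has transcendence degree at most its size. -/
theorem trdeg_le_of_adjoin_eq_top {L : Type u} [Field L] [Algebra k L] (S : Set L)
    (h : IntermediateField.adjoin k S = ⊤) : Algebra.trdeg k L ≤ #S := by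
  have : Algebra.IsAlgebraic (Algebra.adjoin k S) L := ⟨fun x => by
    obtain ⟨a, ha, b, hb, rfl⟩ := IntermediateField.mem_adjoin_iff_div.1 (h ▸ (IntermediateField.mem_top : x ∈ (⊤ : IntermediateField k L)))
    by_cases hb0 : b = 0
    · subst hb0; rw [div_zero]; exact isAlgebraic_zero
    refine ⟨Polynomial.C (⟨b, hb⟩ : Algebra.adjoin k S) * Polynomial.X - Polynomial.C ⟨a, ha⟩, fun h0 => hb0 ?_, ?_⟩
    · exact congrArg Subtype.val (by simpa using congrArg (fun p => Polynomial.coeff p 1) h0 : (⟨b, hb⟩ : Algebra.adjoin k S) = 0)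
    · simp [Subalgebra.algebraMap_def, mul_div_cancel₀ _ hb0]⟩
  exact Algebra.IsAlgebraic.trdeg_le_cardinalMk k S

theorem card_pl {r : ℕ} (f : Fin r → Fin n) (g : Fin r → Fin m) (hf : Function.Injective f) (hg : Function.Injective g) :
    Nat.card (Pl f g) = r * (m + n - r) := by
  have h1 : Nat.card (Pl f g) = Set.ncard ({p : Fin n × Fin m | p.1 ∈ Set.range f ∨ p.2 ∈ Set.range g}) := rfl
  have h2 : ({p : Fin n × Fin m | p.1 ∈ Set.range f ∨ p.2 ∈ Set.range g})ᶜ = (Set.range f)ᶜ ×ˢ (Set.range g)ᶜ := by
    ext p; simp [not_or]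
  have h3 := Set.ncard_add_ncard_compl ({p : Fin n × Fin m | p.1 ∈ Set.range f ∨ p.2 ∈ Set.range g})
  rw [h2, Set.ncard_prod, Set.ncard_compl, Set.ncard_compl, Set.ncard_range_of_injective hf,
    Set.ncard_range_of_injective hg] at h3
  simp only [Nat.card_eq_fintype_card, Fintype.card_prod, Fintype.card_fin] at h3
  have hn : r ≤ n := by simpa using Fintype.card_le_of_injective f hf
  have hm : r ≤ m := by simpa using Fintype.card_le_of_injective g hg
  rw [h1]
  obtain ⟨a, rfl⟩ := Nat.exists_eq_add_of_le hn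
  obtain ⟨b, rfl⟩ := Nat.exists_eq_add_of_le hm
  rw [Nat.add_sub_cancel_left, Nat.add_sub_cancel_left] at h3
  rw [show r + b + (r + a) - r = r + a + b by omega]
  have h4 : (r + a) * (r + b) = r * (r + a + b) + a * b := by ring
  omega

/-- A rank bound gives a bound on the transcendence degree of the entries. -/
theorem exists_generators {L : Type u} [Field L] {r : ℕ} (M : Matrix (Fin n) (Fin m) L)
    (hM : CAlgX.minorIdeal M (r + 1) = ⊥) :
    ∃ (s : ℕ) (f : Fin s → Fin n) (g : Fin s → Fin m), s ≤ r ∧ Function.Injective f ∧ Function.Injective g ∧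
      ∀ (S : Subfield L), (∀ p : Pl f g, M p.1.1 p.1.2 ∈ S) → ∀ i j, M i j ∈ S := by
  obtain ⟨g, hli, hspan⟩ := CAlgH3.DualMinors.exists_cols M rfl
  let N : Matrix (Fin n) (Fin M.rank) L := M.submatrix id g
  have hN : LinearIndependent L N.col := hli
  obtain ⟨f, hf⟩ := CAlgH3.DualMinors.exists_rows N hN
  have hfi : Function.Injective f := fun a b hab => by
    by_contra hne
    exact hf (Matrix.det_zero_of_row_eq hne (funext fun j => by simp [hab]))
  refine ⟨M.rank, f, g, ?_, hfi, fun a b hab => hli.injective (by simp [hab]), fun S hS i j => ?_⟩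
  · by_contra hlt
    rw [not_le] at hlt
    let g' : Fin (r + 1) → Fin m := fun a => g (Fin.castLE hlt a)
    obtain ⟨f', hf'⟩ := CAlgH3.DualMinors.exists_rows (M.submatrix id g')
      (hli.comp (Fin.castLE hlt) (Fin.castLE_injective hlt))
    have : (M.submatrix f' g').det ∈ CAlgX.minorIdeal M (r + 1) := Ideal.subset_span ⟨(f', g'), rfl⟩
    rw [hM, Ideal.mem_bot] at this
    exact hf' this
  obtain ⟨c, hc⟩ := (Submodule.mem_span_range_iff_exists_fun L).1
    (hspan.ge (Submodule.subset_span ⟨j, rfl⟩) : M.col j ∈ Submodule.span L (Set.range fun b => M.col (g b)))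
  have hrow : ∀ i, M i j = ∑ b, c b * M i (g b) := fun i => by
    have := congrFun hc i
    simpa using this.symm
  let A' : Matrix (Fin M.rank) (Fin M.rank) S := Matrix.of fun a b => ⟨M (f a) (g b), hS ⟨(f a, g b), Or.inl ⟨a, rfl⟩⟩⟩
  let v' : Fin M.rank → S := fun a => ⟨M (f a) j, hS ⟨(f a, j), Or.inl ⟨a, rfl⟩⟩⟩
  have hA : A'.map S.subtype = M.submatrix f g := by ext a b; rfl
  have hdet : IsUnit A'.det := isUnit_iff_ne_zero.2 fun h0 => hf (by
    show (M.submatrix f g).det = 0
    rw [← hA, ← RingHom.mapMatrix_apply, ← RingHom.map_det, h0, map_zero])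
  have hcS : ∀ b, c b ∈ S := fun b => by
    have h1 : (A'.map S.subtype).mulVec c = fun a => (v' a : L) := funext fun a => by
      rw [hA]
      simp only [Matrix.mulVec, dotProduct, Matrix.submatrix_apply]
      refine Eq.trans ?_ (hrow (f a)).symm
      exact Finset.sum_congr rfl fun _ _ => mul_comm _ _
    have h2 : c = fun b => ((A'⁻¹.mulVec v') b : L) := by
      refine Matrix.mulVec_injective_iff_isUnit.2 ?_ (h1.trans (funext fun a => ?_))
      · rw [Matrix.isUnit_iff_isUnit_det, ← RingHom.mapMatrix_apply, ← RingHom.map_det]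
        exact hdet.map _
      · have := congrArg (fun w => S.subtype (w a)) (show A'.mulVec (A'⁻¹.mulVec v') = v' by
          rw [Matrix.mulVec_mulVec, Matrix.mul_nonsing_inv _ hdet, Matrix.one_mulVec])
        rw [RingHom.map_mulVec] at this
        exact this.symm
    rw [congrFun h2 b]
    exact Subtype.mem _
  rw [hrow i]
  exact sum_mem fun b _ => mul_mem (hcS b) (hS ⟨(i, g b), Or.inr ⟨b, rfl⟩⟩)

/-- The dimension of the determinantal ring. -/
theorem ringKrullDim_dI {r : ℕ} (hr : r ≤ min n m) :
    ringKrullDim (MvPolynomial (Fin n × Fin m) k ⧸ dI k n m r) = ((r * (m + n - r) : ℕ) : WithBot ℕ∞) := by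
  refine le_antisymm (ringKrullDim_le_of_forall_quotient _ fun P hP => ?_) ?_
  · let A := (MvPolynomial (Fin n × Fin m) k ⧸ dI k n m r) ⧸ P
    let L := FractionRing A
    let φ : MvPolynomial (Fin n × Fin m) k →ₐ[k] L :=
      ((IsScalarTower.toAlgHom k A L).comp (Ideal.Quotient.mkₐ k P)).comp (Ideal.Quotient.mkₐ k _)
    let M : Matrix (Fin n) (Fin m) L := (gmat k n m).map φ
    have hM : CAlgX.minorIdeal M (r + 1) = ⊥ := by
      rw [CAlgX.minorIdeal, Ideal.span_eq_bot]
      rintro _ ⟨⟨a, b⟩, rfl⟩
      show ((gmat k n m).map φ |>.submatrix a b).det = 0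
      rw [Matrix.submatrix_map, ← AlgHom.mapMatrix_apply, ← AlgHom.map_det]
      show algebraMap A L (Ideal.Quotient.mk P (Ideal.Quotient.mk (dI k n m r) ((gmat k n m).submatrix a b).det)) = 0
      rw [Ideal.Quotient.eq_zero_iff_mem.2 (show _ ∈ dI k n m r from Ideal.subset_span ⟨(a, b), rfl⟩), map_zero, map_zero]
    obtain ⟨s, f, g, hs, hf, hg, hgen⟩ := exists_generators M hM
    let S : Set L := Set.range fun p : Pl f g => M p.1.1 p.1.2
    have htop : IntermediateField.adjoin k S = ⊤ := by
      let E := IntermediateField.adjoin k S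
      have hE : ∀ x, φ x ∈ E := fun x => by
        induction x using MvPolynomial.induction_on with
        | C c => rw [← algebraMap_eq, AlgHom.commutes]; exact E.algebraMap_mem c
        | add p q hp hq => rw [map_add]; exact add_mem hp hq
        | mul_X p i hp =>
          rw [map_mul]
          exact mul_mem hp (hgen E.toSubfield (fun q => IntermediateField.subset_adjoin k S ⟨q, rfl⟩) i.1 i.2)
      rw [eq_top_iff]
      rintro x -
      obtain ⟨a, b, -, rfl⟩ := IsFractionRing.div_surjective (A := A) x
      have hA : ∀ a : A, algebraMap A L a ∈ E := fun a => by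
        obtain ⟨a', rfl⟩ := Ideal.Quotient.mk_surjective a
        obtain ⟨a'', rfl⟩ := Ideal.Quotient.mk_surjective a'
        exact hE a''
      exact div_mem (hA a) (hA b)
    rw [DimLib.ringKrullDim_eq_trdeg (k := k) (A := A)]
    have h1 : Algebra.trdeg k A ≤ Nat.card (Pl f g) := by
      refine (trdeg_le_of_injective (IsScalarTower.toAlgHom k A L) (IsFractionRing.injective A L)).trans
        ((trdeg_le_of_adjoin_eq_top k S htop).trans ?_)
      have h := Cardinal.mk_range_le_lift (f := fun p : Pl f g => M p.1.1 p.1.2)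
      simpa [S, Nat.card_eq_fintype_card] using h
    rw [card_pl f g hf hg] at h1
    have h2 : (Algebra.trdeg k A).toNat ≤ s * (m + n - s) := by
      simpa using Cardinal.toNat_le_toNat h1 (Cardinal.natCast_lt_aleph0)
    have h3 : s * (m + n - s) ≤ r * (m + n - r) := by
      obtain ⟨c, rfl⟩ := Nat.exists_eq_add_of_le hs
      have h5 : s + c ≤ n ∧ s + c ≤ m := by omega
      obtain ⟨a, rfl⟩ := Nat.exists_eq_add_of_le h5.1
      obtain ⟨b, rfl⟩ := Nat.exists_eq_add_of_le h5.2
      rw [show s + c + b + (s + c + a) - s = s + 2 * c + a + b by omega,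
        show s + c + b + (s + c + a) - (s + c) = s + c + a + b by omega]
      nlinarith
    exact_mod_cast h2.trans h3
  · let f : Fin r → Fin n := Fin.castLE (hr.trans (min_le_left n m))
    let g : Fin r → Fin m := Fin.castLE (hr.trans (min_le_right n m))
    let φ := toChart k f g
    let emb : Fin r × Fin r → Pl f g := fun p => Subtype.mk (f p.1, g p.2) (Or.inl ⟨p.1, rfl⟩)
    have hpiv : piv k f g ≠ 0 := fun h0 => by
      have e : (ymat k f g).submatrix f g = (Matrix.mvPolynomialX (Fin r) (Fin r) k).map
          (rename (R := k) emb) := by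
        refine Matrix.ext fun a b => ?_
        simp only [ymat, Matrix.submatrix_apply, Matrix.of_apply, Matrix.map_apply, Matrix.mvPolynomialX_apply, rename_X]
        exact dif_pos (show f a ∈ Set.range f ∨ g b ∈ Set.range g from Or.inl ⟨a, rfl⟩)
      rw [piv, e, ← AlgHom.mapMatrix_apply, ← AlgHom.map_det] at h0
      refine Matrix.det_mvPolynomialX_ne_zero (Fin r) k ((rename_injective _ fun p q hpq => ?_) (h0.trans (map_zero _).symm))
      simp only [emb, Subtype.mk.injEq, Prod.mk.injEq] at hpq
      exact Prod.ext (Fin.castLE_injective _ hpq.1) (Fin.castLE_injective _ hpq.2)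
    haveI : IsDomain (Chart k f g) :=
      IsLocalization.isDomain_localization (powers_le_nonZeroDivisors_of_noZeroDivisors hpiv)
    let Q := (MvPolynomial (Fin n × Fin m) k ⧸ dI k n m r) ⧸ RingHom.ker φ
    haveI : (RingHom.ker φ).IsPrime := RingHom.ker_isPrime _
    refine le_trans ?_ (ringKrullDim_le_of_surjective (Ideal.Quotient.mk (RingHom.ker φ)) Ideal.Quotient.mk_surjective)
    rw [DimLib.ringKrullDim_eq_trdeg (k := k) (A := Q)]
    have hind : AlgebraicIndependent k fun p : Pl f g => (Ideal.Quotient.mk (RingHom.ker φ)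
        (Ideal.Quotient.mk (dI k n m r) (X p.1)) : Q) := by
      refine AlgebraicIndependent.of_comp (Ideal.kerLiftAlg φ) ?_
      have : (Ideal.kerLiftAlg φ ∘ fun p : Pl f g => (Ideal.Quotient.mk (RingHom.ker φ)
          (Ideal.Quotient.mk (dI k n m r) (X p.1)) : Q)) =
          IsScalarTower.toAlgHom k (MvPolynomial (Pl f g) k) (Chart k f g) ∘ X := funext fun p => by
        show φ (Ideal.Quotient.mk _ (X p.1)) = algebraMap _ _ (X p)
        rw [toChart_mk, toChart₀, aeval_X, mmat_apply_of_mem k f g _ _ p.2]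
        simp only [ymat', ymat, Matrix.map_apply, Matrix.of_apply]
        rw [dif_pos p.2]
      rw [this]
      exact (algebraicIndependent_X (Pl f g) k).map' (IsLocalization.injective _
        (powers_le_nonZeroDivisors_of_noZeroDivisors hpiv))
    have h1 := hind.lift_cardinalMk_le_trdeg
    rw [← card_pl f g (Fin.castLE_injective _) (Fin.castLE_injective _)]
    have hfin : Algebra.trdeg k Q < Cardinal.aleph0 := trdeg_lt_aleph0_of_finiteType
    have h2 : Nat.card (Pl f g) ≤ (Algebra.trdeg k Q).toNat := by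
      have := Cardinal.toNat_le_toNat h1 (by simpa using hfin)
      simpa [Cardinal.toNat_lift, Nat.card] using this
    exact_mod_cast h2

end Groth.Agent.Det5
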