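import Groth.Agent.Det5.Chart

/-!
# Smooth locus of generic determinantal rings
-/

set_option autoImplicit false
set_option linter.style.haveILetI false

universe u

open MvPolynomial TensorProduct

namespace Groth.Agent.Det5

section Deriv

variable {R A M : Type*} [CommRing R] [CommRing A] [AddCommGroup M] [Algebra R A] [Module A M] [Module R M]

theorem leibniz_prod {ι : Type*} [DecidableEq ι] (D : Derivation R A M) (s : Finset ι) (h : ι → A) :
    D (∏ i ∈ s, h i) = ∑ i ∈ s, (∏ j ∈ s.erase i, h j) • D (h i) := by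
  induction s using Finset.induction_on with
  | empty => simp
  | @insert a s ha ih =>
    rw [Finset.prod_insert ha, D.leibniz, ih, Finset.sum_insert ha, Finset.erase_insert ha, Finset.smul_sum, add_comm]
    congr 1
    refine Finset.sum_congr rfl fun i hi => ?_
    have hia : a ≠ i := fun h => ha (h ▸ hi)
    rw [smul_smul, Finset.erase_insert_of_ne hia, Finset.prod_insert (fun h => ha (Finset.mem_of_mem_erase h))]

theorem deriv_det {ι : Type*} [Fintype ι] [DecidableEq ι] (D : Derivation R A M) (N : Matrix ι ι A) :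
    D N.det = ∑ i, ∑ b, N.adjugate i b • D (N b i) := by
  have e : ∀ (σ : Equiv.Perm ι) (i b : ι), ∏ l, (N.updateRow b (Pi.single i 1)) (σ l) l =
      if σ i = b then ∏ l ∈ Finset.univ.erase i, N (σ l) l else 0 := by
    intro σ i b
    split_ifs with h
    · rw [← Finset.mul_prod_erase _ _ (Finset.mem_univ i), h, Matrix.updateRow_self, Pi.single_eq_same, one_mul]
      refine Finset.prod_congr rfl fun l hl => ?_
      rw [Matrix.updateRow_ne]
      exact fun hl' => (Finset.mem_erase.1 hl).1 (σ.injective (hl'.trans h.symm))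
    · refine Finset.prod_eq_zero (Finset.mem_univ (σ.symm b)) ?_
      rw [Equiv.apply_symm_apply, Matrix.updateRow_self, Pi.single_eq_of_ne]
      exact fun hl => h (by rw [← hl, Equiv.apply_symm_apply])
  simp only [Matrix.adjugate_apply, Matrix.det_apply, e]
  rw [map_sum]
  simp only [Units.smul_def, map_zsmul, leibniz_prod, Finset.sum_smul, smul_assoc, Finset.smul_sum]
  rw [Finset.sum_comm]
  refine Finset.sum_congr rfl fun i _ => ?_
  rw [Finset.sum_comm]
  refine Finset.sum_congr rfl fun σ _ => ?_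
  rw [Finset.sum_eq_single (σ i) (fun b _ hb => by rw [if_neg (fun h => hb h.symm)]; simp)
    (fun h => absurd (Finset.mem_univ _) h), if_pos rfl]

end Deriv

variable (k : Type u) [Field k] {n m r : ℕ}

theorem smooth_chart (f : Fin r → Fin n) (g : Fin r → Fin m) : Algebra.FormallySmooth k (Chart k f g) :=
  have : Algebra.FormallySmooth (MvPolynomial (Pl f g) k) (Chart k f g) :=
    Algebra.FormallySmooth.of_isLocalization (Submonoid.powers (piv k f g))
  Algebra.FormallySmooth.comp k (MvPolynomial (Pl f g) k) (Chart k f g)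

theorem mem_smoothLocus_of_minor (f : Fin r → Fin n) (g : Fin r → Fin m)
    (P : PrimeSpectrum (MvPolynomial (Fin n × Fin m) k ⧸ dI k n m r)) (h : qminor k f g ∉ P.asIdeal) :
    P ∈ Algebra.smoothLocus k (MvPolynomial (Fin n × Fin m) k ⧸ dI k n m r) := by
  haveI := smooth_chart k f g
  haveI : Algebra.FinitePresentation k (MvPolynomial (Fin n × Fin m) k ⧸ dI k n m r) :=
    Algebra.FinitePresentation.of_finiteType.1 inferInstance
  exact Algebra.basicOpen_subset_smoothLocus_iff.2 (Algebra.FormallySmooth.of_equiv (chartEquiv k f g).symm) h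

theorem not_mem_smoothLocus (hn : r + 1 ≤ n) (hm : r + 1 ≤ m)
    (P : PrimeSpectrum (MvPolynomial (Fin n × Fin m) k ⧸ dI k n m r))
    (hP : ∀ (a : Fin r → Fin n) (b : Fin r → Fin m), qminor k a b ∈ P.asIdeal) :
    P ∉ Algebra.smoothLocus k (MvPolynomial (Fin n × Fin m) k ⧸ dI k n m r) := by
  intro hs
  let mk := Ideal.Quotient.mk (dI k n m r)
  let Q := P.asIdeal.comap mk
  let RQ := Localization.AtPrime Q
  let C := Localization.AtPrime P.asIdeal
  have hcomp : ∀ x, Localization.localRingHom Q P.asIdeal mk rfl (algebraMap _ RQ x) = algebraMap _ C (mk x) :=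
    fun x => Localization.localRingHom_to_map _ _ _ _ x
  letI : Algebra RQ C := (Localization.localRingHom Q P.asIdeal mk rfl).toAlgebra
  haveI : IsScalarTower k RQ C := IsScalarTower.of_algebraMap_eq fun c => by
    rw [IsScalarTower.algebraMap_apply k (MvPolynomial (Fin n × Fin m) k) RQ]
    refine Eq.trans ?_ (hcomp _).symm
    rw [IsScalarTower.algebraMap_apply k (MvPolynomial (Fin n × Fin m) k ⧸ dI k n m r) C]
    rfl
  have hsurj : Function.Surjective (algebraMap RQ C) := fun z => by
    obtain ⟨a, s, rfl⟩ := IsLocalization.exists_mk'_eq P.asIdeal.primeCompl z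
    obtain ⟨a', rfl⟩ := Ideal.Quotient.mk_surjective a
    obtain ⟨s', hs'⟩ := Ideal.Quotient.mk_surjective (s : MvPolynomial (Fin n × Fin m) k ⧸ dI k n m r)
    have hsQ : s' ∈ Q.primeCompl := fun h => s.2 (by rw [← hs']; exact h)
    refine ⟨IsLocalization.mk' RQ a' ⟨s', hsQ⟩, ?_⟩
    refine (Localization.localRingHom_mk' Q P.asIdeal mk rfl a' ⟨s', hsQ⟩).trans ?_
    exact congrArg (IsLocalization.mk' C _) (Subtype.ext hs')
  haveI : Algebra.FormallySmooth (MvPolynomial (Fin n × Fin m) k) RQ :=
    Algebra.FormallySmooth.of_isLocalization Q.primeCompl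
  haveI : Algebra.FormallySmooth k RQ := Algebra.FormallySmooth.comp k (MvPolynomial (Fin n × Fin m) k) RQ
  haveI : Algebra.FormallySmooth k C := hs
  obtain ⟨l, hl⟩ := (Algebra.FormallySmooth.iff_split_injection (R := k) (P := RQ) hsurj).1 ‹_›
  let J := RingHom.ker (algebraMap RQ C)
  let mm := IsLocalRing.maximalIdeal RQ
  let gen : Set (MvPolynomial (Fin n × Fin m) k) :=
    Set.range fun fg : (Fin (r + 1) → Fin n) × (Fin (r + 1) → Fin m) => ((gmat k n m).submatrix fg.1 fg.2).det
  have hJ : J = Ideal.map (algebraMap _ RQ) (dI k n m r) := by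
    refine le_antisymm (fun z hz => ?_) (Ideal.map_le_iff_le_comap.2 fun x hx => ?_)
    · obtain ⟨a, s, rfl⟩ := IsLocalization.exists_mk'_eq Q.primeCompl z
      rw [RingHom.mem_ker] at hz
      have h0 : algebraMap _ C (mk a) = 0 := by
        rw [← hcomp, ← IsLocalization.mk'_spec RQ a s, map_mul]
        exact mul_eq_zero_of_left hz _
      obtain ⟨t, ht⟩ := (IsLocalization.map_eq_zero_iff P.asIdeal.primeCompl C (mk a)).1 h0
      obtain ⟨t', ht'⟩ := Ideal.Quotient.mk_surjective (t : MvPolynomial (Fin n × Fin m) k ⧸ dI k n m r)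
      have htQ : t' ∈ Q.primeCompl := fun h => t.2 (by rw [← ht']; exact h)
      rw [← ht', ← map_mul, Ideal.Quotient.eq_zero_iff_mem] at ht
      have := Ideal.mem_map_of_mem (algebraMap _ RQ) ht
      rw [map_mul, Ideal.unit_mul_mem_iff_mem _ (IsLocalization.map_units RQ (⟨t', htQ⟩ : Q.primeCompl))] at this
      rw [IsLocalization.mk'_eq_mul_mk'_one]
      exact Ideal.mul_mem_right _ _ this
    · show algebraMap RQ C (algebraMap _ RQ x) = 0
      refine (hcomp x).trans ?_
      rw [Ideal.Quotient.eq_zero_iff_mem.2 hx, map_zero]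
  have hJm : J ≤ mm := IsLocalRing.le_maximalIdeal (RingHom.ker_ne_top _)
  have hle : J ≤ mm • J := by
    conv_lhs => rw [hJ]
    show Ideal.map _ (Ideal.span gen) ≤ _
    rw [Ideal.map_span, Ideal.span_le]
    rintro _ ⟨_, ⟨⟨a, b⟩, rfl⟩, rfl⟩
    let N : Matrix (Fin (r + 1)) (Fin (r + 1)) RQ := ((gmat k n m).submatrix a b).map (algebraMap _ RQ)
    have hx : algebraMap _ RQ ((gmat k n m).submatrix a b).det = N.det := RingHom.map_det _ _
    have hxJ : algebraMap _ RQ ((gmat k n m).submatrix a b).det ∈ J := by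
      rw [hJ]; exact Ideal.mem_map_of_mem _ (Ideal.subset_span ⟨(a, b), rfl⟩)
    have hD : KaehlerDifferential.D k RQ N.det ∈ mm • (⊤ : Submodule RQ (Ω[RQ⁄k])) := by
      rw [deriv_det]
      refine sum_mem fun i _ => sum_mem fun j _ => Submodule.smul_mem_smul ?_ trivial
      rw [Matrix.adjugate_fin_succ_eq_det_submatrix]
      refine Ideal.mul_mem_left _ _ ?_
      rw [Matrix.submatrix_map, ← RingHom.mapMatrix_apply, ← RingHom.map_det, Matrix.submatrix_submatrix]
      exact (IsLocalization.AtPrime.to_map_mem_maximal_iff RQ Q _).2 (hP _ _)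
    have h1 : (1 : C) ⊗ₜ[RQ] KaehlerDifferential.D k RQ (algebraMap _ RQ ((gmat k n m).submatrix a b).det) ∈
        mm • (⊤ : Submodule RQ (C ⊗[RQ] Ω[RQ⁄k])) := by
      rw [hx]
      have := Submodule.mem_map_of_mem (f := TensorProduct.mk RQ C (Ω[RQ⁄k]) 1) hD
      rw [Submodule.map_smul''] at this
      exact Submodule.smul_mono le_rfl le_top this
    have h2 : J.toCotangent ⟨_, hxJ⟩ ∈ mm • (⊤ : Submodule RQ J.Cotangent) := by
      have := Submodule.mem_map_of_mem (f := l) h1
      rw [Submodule.map_smul''] at this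
      have := Submodule.smul_mono (le_refl mm) (le_top) this
      have e := LinearMap.congr_fun hl (J.toCotangent ⟨_, hxJ⟩)
      rw [LinearMap.comp_apply, KaehlerDifferential.kerCotangentToTensor_toCotangent, LinearMap.id_apply] at e
      rwa [e] at this
    rw [← LinearMap.range_eq_top.2 J.toCotangent_surjective, LinearMap.range_eq_map, ← Submodule.map_smul''] at h2
    obtain ⟨y, hy, hy2⟩ := h2
    have hyJ : (y : RQ) ∈ mm • J := by
      have := Submodule.mem_map_of_mem (f := J.subtype) hy
      rw [Submodule.map_smul''] at this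
      exact Submodule.smul_mono le_rfl (le_of_eq (by rw [Submodule.map_top, Submodule.range_subtype])) this
    have h3 := (Ideal.toCotangent_eq _).1 hy2.symm
    have h4 : algebraMap _ RQ ((gmat k n m).submatrix a b).det - (y : RQ) ∈ mm • J := by
      rw [pow_two] at h3
      exact Ideal.mul_mono_left hJm h3
    simpa using add_mem h4 hyJ
  haveI : IsNoetherianRing RQ := IsLocalization.isNoetherianRing Q.primeCompl RQ inferInstance
  have hbot := Submodule.eq_bot_of_le_smul_of_le_jacobson_bot mm J (IsNoetherian.noetherian J) hle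
    (by rw [IsLocalRing.jacobson_eq_maximalIdeal ⊥ bot_ne_top])
  have h0 : algebraMap _ RQ ((gmat k n m).submatrix (Fin.castLE hn) (Fin.castLE hm)).det = 0 := by
    have : algebraMap _ RQ ((gmat k n m).submatrix (Fin.castLE hn) (Fin.castLE hm)).det ∈ J := by
      rw [hJ]; exact Ideal.mem_map_of_mem _ (Ideal.subset_span ⟨(_, _), rfl⟩)
    rwa [hbot, Submodule.mem_bot] at this
  rw [map_eq_zero_iff _ (IsLocalization.injective RQ Q.primeCompl_le_nonZeroDivisors)] at h0
  have e : (gmat k n m).submatrix (Fin.castLE hn) (Fin.castLE hm) =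
      (Matrix.mvPolynomialX (Fin (r + 1)) (Fin (r + 1)) k).map
        (rename (R := k) (fun p : Fin (r + 1) × Fin (r + 1) => (Fin.castLE hn p.1, Fin.castLE hm p.2))) := by
    refine Matrix.ext fun a b => ?_
    simp
  rw [e, ← AlgHom.mapMatrix_apply, ← AlgHom.map_det] at h0
  refine Matrix.det_mvPolynomialX_ne_zero (Fin (r + 1)) k ((rename_injective _ fun p q hpq => ?_) (h0.trans (map_zero _).symm))
  simp only [Prod.mk.injEq] at hpq
  exact Prod.ext (Fin.castLE_injective _ hpq.1) (Fin.castLE_injective _ hpq.2)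

end Groth.Agent.Det5
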